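import Cfsg.Agent.H187.Scheme.Chars
import Cfsg.Agent.H443.HN.Row

/-!
# Irreducible characters of HN from its action on the 1539000 cosets of `2.HS.2` (helper187)

The permutation character is the sum of eight characters of the degrees
`1, 12749, 16929, 267520, 653125, 365750, 214016, 8910` (eigenvalues `1408, 208, 128, 28, 16, -32, -47, -112` of helper443's
graph), at most one of them is reducible.
-/

set_option autoImplicit false
set_option linter.style.longLine false

namespace Cfsg.Agent.H187.Scheme.HN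

open Cfsg Cfsg.Agent.H443.HN.Scheme Cfsg.Agent.H443.HN.Frame Cfsg.Agent.HN.Distinct Cfsg.Agent.HN Cfsg.Agent.HN.DCover

def L0 : List (ℤ × (Fin 9 → ℤ)) := [
  (208, ![-208, 1, 0, 0, 0, 0, 0, 0, 0]),
  (128, ![28032, -283, 32, 18, 4, 2, 0, 0, 0]),
  (28, ![-1183360, 33065, -6688, -2278, 932, 1390, 1632, 0, 1280]),
  (16, ![65489280, -292695, 2815200, 2292090, 1875300, 1898830, 1889280, 2088960, 1986560]),
  (-32, ![1683542400, 2826176025, 2683864800, 2739557850, 2770923300, 2762967150, 2762342400, 2752512000, 2752512000]),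
  (-47, ![4058382336000, 4013654016000, 4022599680000, 4018126848000, 4016209920000, 4016848896000, 4016848896000, 4017487872000, 4017487872000]),
  (-112, ![6105763676160000, 6105763676160000, 6105763676160000, 6105763676160000, 6105763676160000, 6105763676160000, 6105763676160000, 6105763676160000, 6105763676160000])]

def L1 : List (ℤ × (Fin 9 → ℤ)) := [
  (1408, ![-1408, 1, 0, 0, 0, 0, 0, 0, 0]),
  (128, ![181632, -1483, 32, 18, 4, 2, 0, 0, 0]),
  (28, ![-7173760, 156665, -45088, -23878, -3868, -1010, 1632, 0, 1280]),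
  (16, ![335364480, -16239495, 3468000, 878490, -164700, -229970, -69120, 2088960, 450560]),
  (-32, ![-12133545600, -649821975, -537703200, -350214150, 30963300, -26540850, 25190400, 245760000, 0]),
  (-47, ![-1485225984000, -264136704000, -19537920000, -57234432000, -7587840000, -10036224000, 4064256000, 75251712000, 12582912000]),
  (-112, ![-538249789440000, -79514173440000, -14839971840000, -20104151040000, -1303511040000, -3058237440000, 1453916160000, 23262658560000, 3208642560000])]

def L2 : List (ℤ × (Fin 9 → ℤ)) := [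
  (1408, ![-1408, 1, 0, 0, 0, 0, 0, 0, 0]),
  (208, ![294272, -1563, 32, 18, 4, 2, 0, 0, 0]),
  (28, ![-10440320, 267305, -47648, -25318, -4188, -1170, 1632, 0, 1280]),
  (16, ![543410560, -16381015, 6788320, 2627450, 108900, -167090, -199680, 2088960, 348160]),
  (-32, ![-5675331200, 626694425, -283892000, -140659750, 87915300, 1917550, 9830400, 78643200, -52428800]),
  (-47, ![615645184000, 11239424000, 67895296000, 7454720000, -98304000, -2932736000, -638976000, 26345472000, 3407872000]),
  (-112, ![84777369600000, 7707033600000, 7707033600000, 0, 1101004800000, -550502400000, 0, 5505024000000, 0])]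

def L3 : List (ℤ × (Fin 9 → ℤ)) := [
  (1408, ![-1408, 1, 0, 0, 0, 0, 0, 0, 0]),
  (208, ![294272, -1563, 32, 18, 4, 2, 0, 0, 0]),
  (128, ![-39867520, 423605, -50848, -27118, -4588, -1370, 1632, 0, 1280]),
  (16, ![1234316160, -41235915, 11514720, 5137650, 522900, -52490, -362880, 2088960, 220160]),
  (-32, ![-18562051200, 773501925, -679140000, -252792750, 101865300, 25502550, 20006400, -130252800, -94924800]),
  (-47, ![216674304000, -40419456000, 66640896000, 13110720000, -7843584000, -1355616000, -858816000, 2813952000, 5463552000]),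
  (-112, ![-32643072000000, -649152000000, 741888000000, 46368000000, 26496000000, -36432000000, 33120000000, -423936000000, -52992000000])]

def L4 : List (ℤ × (Fin 9 → ℤ)) := [
  (1408, ![-1408, 1, 0, 0, 0, 0, 0, 0, 0]),
  (208, ![294272, -1563, 32, 18, 4, 2, 0, 0, 0]),
  (128, ![-39867520, 423605, -50848, -27118, -4588, -1370, 1632, 0, 1280]),
  (28, ![1712726400, -46319175, 12124896, 5463066, 577956, -36050, -382464, 2088960, 204800]),
  (-32, ![-10410153600, 1024336425, -788028192, -298824582, 98233188, 26921550, 23420928, -155320320, -98304000]),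
  (-47, ![952988467200, -33898905600, 67930619904, 13244227584, -9294790656, -1572249600, -883777536, 2797731840, 6389760000]),
  (-112, ![59005049241600, 670511923200, 107281907712, -93871669248, -65135443968, -47893708800, 40230715392, -459779604480, 0])]

def L5 : List (ℤ × (Fin 9 → ℤ)) := [
  (1408, ![-1408, 1, 0, 0, 0, 0, 0, 0, 0]),
  (208, ![294272, -1563, 32, 18, 4, 2, 0, 0, 0]),
  (128, ![-39867520, 423605, -50848, -27118, -4588, -1370, 1632, 0, 1280]),
  (28, ![1712726400, -46319175, 12124896, 5463066, 577956, -36050, -382464, 2088960, 204800]),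
  (16, ![-92621020800, 3247656825, -1370023200, -561051750, 70491300, 28651950, 41779200, -255590400, -108134400]),
  (-47, ![219512832000, -49717248000, 97026048000, 23654400000, -14426112000, -2838528000, -1732608000, 8749056000, 10960896000]),
  (-112, ![-45416448000000, 1032192000000, -825753600000, 103219200000, -29491200000, -73728000000, 14745600000, -117964800000, 58982400000])]

def L6 : List (ℤ × (Fin 9 → ℤ)) := [
  (1408, ![-1408, 1, 0, 0, 0, 0, 0, 0, 0]),
  (208, ![294272, -1563, 32, 18, 4, 2, 0, 0, 0]),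
  (128, ![-39867520, 423605, -50848, -27118, -4588, -1370, 1632, 0, 1280]),
  (28, ![1712726400, -46319175, 12124896, 5463066, 577956, -36050, -382464, 2088960, 204800]),
  (16, ![-92621020800, 3247656825, -1370023200, -561051750, 70491300, 28651950, 41779200, -255590400, -108134400]),
  (-32, ![1608828144000, -98432100375, 117576396000, 32070176250, -15483481500, -3268307250, -2359296000, 12582912000, 12582912000]),
  (-112, ![41596354800000, -1388514684375, -945371700000, 295428656250, 118171462500, -59085731250, 0, 0, 0])]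

def L7 : List (ℤ × (Fin 9 → ℤ)) := [
  (1408, ![-1408, 1, 0, 0, 0, 0, 0, 0, 0]),
  (208, ![294272, -1563, 32, 18, 4, 2, 0, 0, 0]),
  (128, ![-39867520, 423605, -50848, -27118, -4588, -1370, 1632, 0, 1280]),
  (28, ![1712726400, -46319175, 12124896, 5463066, 577956, -36050, -382464, 2088960, 204800]),
  (16, ![-92621020800, 3247656825, -1370023200, -561051750, 70491300, 28651950, 41779200, -255590400, -108134400]),
  (-32, ![1608828144000, -98432100375, 117576396000, 32070176250, -15483481500, -3268307250, -2359296000, 12582912000, 12582912000]),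
  (-47, ![-62977474560000, 5009571840000, -8587837440000, -1789132800000, 1124597760000, 153354240000, 153354240000, -817889280000, -817889280000])]

/-- the data for the eight eigenvalues -/
def L : Fin 8 → List (ℤ × (Fin 9 → ℤ)) := ![L0, L1, L2, L3, L4, L5, L6, L7]

/-- the eigenvalues -/
def th : Fin 8 → ℤ := ![1408, 208, 128, 28, 16, -32, -47, -112]

/-- the products of the differences -/
def pp : Fin 8 → ℤ := ![9396770297610240000000, -64975011840000000, 7707033600000000, -187790400000000, 139037352394752, -191102976000000, 299121514453125, -10877927424000000]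

/-- the coefficients -/
def cc : Fin 8 → ℤ := ![54145, -7830519970, 66016077543, -2709340454912, 3659362890625, -2662376789800, 1700941266944, -46772524575]

/-- the common multiple -/
def DD : ℤ := 508788127764106444800000000

/-- the degrees -/
def nn : Fin 8 → ℕ := ![1, 12749, 16929, 267520, 653125, 365750, 214016, 8910]

theorem ok0 : Ok K (Pi.single 0 1) L0 := by
  refine ⟨?_, ?_, ?_, ?_, ?_, ?_, ?_, trivial⟩ <;> decide +kernel

theorem eig0 : ∀ i, ∑ j, K i j * last (Pi.single 0 1) L0 j = 1408 * last (Pi.single 0 1) L0 i := by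
  decide +kernel

theorem ok1 : Ok K (Pi.single 0 1) L1 := by
  refine ⟨?_, ?_, ?_, ?_, ?_, ?_, ?_, trivial⟩ <;> decide +kernel

theorem eig1 : ∀ i, ∑ j, K i j * last (Pi.single 0 1) L1 j = 208 * last (Pi.single 0 1) L1 i := by
  decide +kernel

theorem ok2 : Ok K (Pi.single 0 1) L2 := by
  refine ⟨?_, ?_, ?_, ?_, ?_, ?_, ?_, trivial⟩ <;> decide +kernel

theorem eig2 : ∀ i, ∑ j, K i j * last (Pi.single 0 1) L2 j = 128 * last (Pi.single 0 1) L2 i := by
  decide +kernel

theorem ok3 : Ok K (Pi.single 0 1) L3 := by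
  refine ⟨?_, ?_, ?_, ?_, ?_, ?_, ?_, trivial⟩ <;> decide +kernel

theorem eig3 : ∀ i, ∑ j, K i j * last (Pi.single 0 1) L3 j = 28 * last (Pi.single 0 1) L3 i := by
  decide +kernel

theorem ok4 : Ok K (Pi.single 0 1) L4 := by
  refine ⟨?_, ?_, ?_, ?_, ?_, ?_, ?_, trivial⟩ <;> decide +kernel

theorem eig4 : ∀ i, ∑ j, K i j * last (Pi.single 0 1) L4 j = 16 * last (Pi.single 0 1) L4 i := by
  decide +kernel

theorem ok5 : Ok K (Pi.single 0 1) L5 := by
  refine ⟨?_, ?_, ?_, ?_, ?_, ?_, ?_, trivial⟩ <;> decide +kernel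

theorem eig5 : ∀ i, ∑ j, K i j * last (Pi.single 0 1) L5 j = (-32) * last (Pi.single 0 1) L5 i := by
  decide +kernel

theorem ok6 : Ok K (Pi.single 0 1) L6 := by
  refine ⟨?_, ?_, ?_, ?_, ?_, ?_, ?_, trivial⟩ <;> decide +kernel

theorem eig6 : ∀ i, ∑ j, K i j * last (Pi.single 0 1) L6 j = (-47) * last (Pi.single 0 1) L6 i := by
  decide +kernel

theorem ok7 : Ok K (Pi.single 0 1) L7 := by
  refine ⟨?_, ?_, ?_, ?_, ?_, ?_, ?_, trivial⟩ <;> decide +kernel

theorem eig7 : ∀ i, ∑ j, K i j * last (Pi.single 0 1) L7 j = (-112) * last (Pi.single 0 1) L7 i := by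
  decide +kernel

theorem ok (s : Fin 8) : Ok K (Pi.single 0 1) (L s) := by
  fin_cases s
  · exact ok0
  · exact ok1
  · exact ok2
  · exact ok3
  · exact ok4
  · exact ok5
  · exact ok6
  · exact ok7

theorem eig (s : Fin 8) : ∀ i, ∑ j, K i j * last (Pi.single 0 1) (L s) j = th s * last (Pi.single 0 1) (L s) i := by
  fin_cases s
  · exact eig0
  · exact eig1
  · exact eig2
  · exact eig3
  · exact eig4
  · exact eig5
  · exact eig6
  · exact eig7

theorem prod_eq : ∀ s, ((L s).map fun x => th s - x.1).prod = pp s := by decide +kernel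

theorem pp_ne : ∀ s, pp s ≠ 0 := by decide

theorem cp : ∀ s, cc s * pp s = DD := by decide +kernel

theorem DD_ne : DD ≠ 0 := by decide

theorem sum_eq : ∀ i, ∑ s, cc s * last (Pi.single 0 1) (L s) i = if i = 0 then DD else 0 := by decide +kernel

theorem nn_ne : ∀ s, nn s ≠ 0 := by decide

theorem nn_eq : ∀ s, (1539000 : ℤ) * last (Pi.single 0 1) (L s) 0 = nn s * pp s := by decide +kernel

theorem ty_smul (g : G) (x y : V) : ty (g • x) (g • y) = ty x y := by
  induction x using QuotientGroup.induction_on with | H a => ?_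
  induction y using QuotientGroup.induction_on with | H b => ?_
  have h1 : g • ((a : G) : V) = ((g * a : G) : V) := rfl
  have h2 : g • ((b : G) : V) = ((g * b : G) : V) := rfl
  rw [h1, h2, ty_mk, ty_mk]
  congr 1
  group

theorem ty_trans (x y x' y' : V) (h : ty x y = ty x' y') : ∃ g : G, g • x = x' ∧ g • y = y' := by
  induction x using QuotientGroup.induction_on with | H a => ?_
  induction y using QuotientGroup.induction_on with | H b => ?_
  induction x' using QuotientGroup.induction_on with | H a' => ?_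
  induction y' using QuotientGroup.induction_on with | H b' => ?_
  rw [ty_mk, ty_mk] at h
  obtain ⟨u, hu, v, hv, e⟩ := typ_spec (a⁻¹ * b)
  obtain ⟨u', hu', v', hv', e'⟩ := typ_spec (a'⁻¹ * b')
  refine ⟨a' * u' * u⁻¹ * a⁻¹, ?_, ?_⟩
  · show ((a' * u' * u⁻¹ * a⁻¹ * a : G) : V) = (a' : V)
    rw [QuotientGroup.eq]
    have : (a' * u' * u⁻¹ * a⁻¹ * a)⁻¹ * a' = u * u'⁻¹ := by group
    rw [this]
    exact mul_mem hu (inv_mem hu')
  · show ((a' * u' * u⁻¹ * a⁻¹ * b : G) : V) = (b' : V)
    rw [QuotientGroup.eq]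
    have h1 : a' * u' * u⁻¹ * a⁻¹ * b = b' * (v'⁻¹ * v) := by
      calc a' * u' * u⁻¹ * a⁻¹ * b = a' * u' * u⁻¹ * (a⁻¹ * b) := by group
        _ = a' * u' * u⁻¹ * (u * w9 (typ (a⁻¹ * b)) * v) := by rw [← e]
        _ = a' * (u' * w9 (typ (a⁻¹ * b)) * v') * v'⁻¹ * v := by group
        _ = a' * (a'⁻¹ * b') * v'⁻¹ * v := by rw [h, ← e']
        _ = b' * (v'⁻¹ * v) := by group
    have : (a' * u' * u⁻¹ * a⁻¹ * b)⁻¹ * b' = v⁻¹ * v' := by rw [h1]; group
    rw [this]
    exact mul_mem (inv_mem hv) hv'

/-- **the characters** -/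
theorem chars : ∃ χ : Fin 8 → G → ℂ, (∀ s, Cfsg.IsCharacter G (χ s)) ∧ (∀ s, χ s 1 = nn s) ∧
    (∀ g : G, ∑ s, χ s g = Nat.card (MulAction.fixedBy V g)) ∧
    ∀ s t, s ≠ t → Cfsg.IsIrrCharacter G (χ s) ∨ Cfsg.IsIrrCharacter G (χ t) := by
  refine main (G := G) (ty := ty) (K := K) (i0 := 0) (i1 := 1) ty_zero ty_one count ty_smul ty_trans L th ok eig pp
    prod_eq pp_ne cc DD cp sum_eq DD_ne nn (fun s => ?_) nn_ne (by norm_num)
  rw [Nat.card_eq_fintype_card, Cfsg.Agent.H443.HN.Row.card_V]
  exact nn_eq s

end Cfsg.Agent.H187.Scheme.HN
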